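import Mathlib
import Cfsg.Agent.H716.CopRow
import Cfsg.Agent.H967.CopSec
import Cfsg.Agent.ChevalleyStructure.SL2Hom
import Cfsg.Agent.H680.CritD4
import Cfsg.Agent.H967.CopD4_m3
import Cfsg.Agent.Prune
set_option linter.all false
prune_inst 0x7f00000000000000000000000000000000000000000000000000000000000000000000000000000000000000000000000000000000000000000000000000000000000000000000000000000000000000003fffffffffffffffffffffffffffbeffbdffffffff
open scoped Cfsg.Agent.FastGrp

-- part: H680/TRowBase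
section
/-!
# Criteria for `TRow` from field automorphisms (helper680)

* `dgH : Fˣ →* SL(2, F)` the diagonal elements, `map_dgH`, `dgH_injective`;
* `crit` : a torus `f : Fˣ →* G` on which `α` acts through `σ ≠ 1`, commuting with an element `u` of order the
  characteristic, gives the elements required in `H716.CopRow.TRow`;
* `tRow_of_row` : `TRow r G` for a matrix group with `H967.CopRow.Row G`, from the elements for the field automorphisms.
-/

set_option autoImplicit false

namespace Cfsg.Agent.H680.TRowBase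

open Subgroup Cfsg.Agent.H716.CopRow Cfsg.Agent.H967.CopRow Cfsg.Agent.H967.CopMat

/-- the conclusion of `TRow` for one automorphism -/
def Elts (r : ℕ) {G : Type*} [Group G] (α : MulAut G) : Prop :=
  ∃ e u : G, Commute e u ∧ r ∣ orderOf u ∧ (orderOf e).Coprime (orderOf u) ∧ α e ∈ zpowers e ∧ α e ≠ e

section

variable {F : Type*} [Field F]

/-- the diagonal elements of `SL₂(F)` -/
def dgH : Fˣ →* Matrix.SpecialLinearGroup (Fin 2) F where
  toFun t := ⟨!![(t : F), 0; 0, ((t⁻¹ : Fˣ) : F)], by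
    rw [Matrix.det_fin_two_of, Units.mul_inv, mul_zero, sub_zero]⟩
  map_one' := by
    apply Subtype.ext
    show !![((1 : Fˣ) : F), 0; 0, (((1 : Fˣ)⁻¹ : Fˣ) : F)] = 1
    rw [inv_one, Units.val_one]
    exact Matrix.one_fin_two.symm
  map_mul' s t := by
    apply Subtype.ext
    show !![((s * t : Fˣ) : F), 0; 0, (((s * t)⁻¹ : Fˣ) : F)] =
      !![(s : F), 0; 0, ((s⁻¹ : Fˣ) : F)] * !![(t : F), 0; 0, ((t⁻¹ : Fˣ) : F)]
    rw [Matrix.mul_fin_two, mul_inv, Units.val_mul, Units.val_mul]
    simp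

theorem dgH_injective : Function.Injective (dgH (F := F)) := by
  intro s t h
  have h1 := congrArg (fun z : Matrix.SpecialLinearGroup (Fin 2) F => z.1 0 0) h
  exact Units.ext h1

theorem map_dgH {K : Type*} [Field K] (f : F →+* K) (t : Fˣ) :
    Matrix.SpecialLinearGroup.map f (dgH t) = dgH (Units.map (f : F →* K) t) := by
  apply Subtype.ext
  change (!![(t : F), 0; 0, ((t⁻¹ : Fˣ) : F)] : Matrix (Fin 2) (Fin 2) F).map f =
    !![f (t : F), 0; 0, ((((Units.map (f : F →* K) t)⁻¹ : Kˣ)) : K)]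
  ext i j
  fin_cases i <;> fin_cases j <;> simp

theorem up_pow (t : F) (n : ℕ) :
    Cfsg.Agent.ChevalleyStructure.SL2Hom.up t ^ n = Cfsg.Agent.ChevalleyStructure.SL2Hom.up ((n : F) * t) := by
  induction n with
  | zero =>
    apply Subtype.ext
    change (1 : Matrix (Fin 2) (Fin 2) F) = !![1, ((0 : ℕ) : F) * t; 0, 1]
    rw [Nat.cast_zero, zero_mul]
    exact Matrix.one_fin_two
  | succ n ih =>
    rw [pow_succ, ih]
    apply Subtype.ext
    change (!![1, (n : F) * t; 0, 1] : Matrix (Fin 2) (Fin 2) F) * !![1, t; 0, 1] = !![1, ((n + 1 : ℕ) : F) * t; 0, 1]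
    rw [Matrix.mul_fin_two]
    push_cast
    ext i j
    fin_cases i <;> fin_cases j <;> simp
    ring

theorem orderOf_up {r : ℕ} [hr : Fact r.Prime] [CharP F r] {t : F} (ht : t ≠ 0) :
    orderOf (Cfsg.Agent.ChevalleyStructure.SL2Hom.up t) = r := by
  refine orderOf_eq_prime ?_ ?_
  · rw [up_pow, CharP.cast_eq_zero, zero_mul]
    apply Subtype.ext
    exact Matrix.one_fin_two.symm
  · intro h
    have h2 := congrArg (fun z : Matrix.SpecialLinearGroup (Fin 2) F => z.1 0 1) h
    exact ht h2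

/-- a torus on which `α` acts through `σ ≠ 1`, commuting with an element whose order is the characteristic -/
theorem crit [Finite F] {G : Type*} [Group G] {r : ℕ} [Fact r.Prime] [CharP F r] {α : MulAut G} {σ : F ≃+* F}
    (hσ : σ ≠ 1) (f : Fˣ →* G) (hf : Function.Injective f)
    (h : ∀ t : Fˣ, α (f t) = f (Units.map ((σ : F →+* F) : F →* F) t)) {u : G} (hu : ∀ t, Commute (f t) u)
    (hur : orderOf u = r) : Elts r α := by
  obtain ⟨s, hs⟩ := IsCyclic.exists_generator (α := Fˣ)
  refine ⟨f s, u, hu s, hur ▸ dvd_refl _, ?_, ?_, ?_⟩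
  · rw [hur, orderOf_injective f hf, orderOf_eq_card_of_forall_mem_zpowers hs, Nat.card_units]
    have h1 : r ∣ Nat.card F := by
      have := Fintype.ofFinite F
      obtain ⟨n, -, hn⟩ := FiniteField.card F r
      rw [Nat.card_eq_fintype_card, hn]
      exact dvd_pow_self _ n.ne_zero
    have h2 : 0 < Nat.card F := Nat.card_pos
    rw [Nat.coprime_comm, (Fact.out : r.Prime).coprime_iff_not_dvd]
    intro h3
    have h4 := (Nat.dvd_sub h1 h3)
    rw [Nat.sub_sub_self h2] at h4
    exact (Fact.out : r.Prime).one_lt.ne' (Nat.dvd_one.1 h4)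
  · rw [h]
    obtain ⟨k, hk⟩ := hs (Units.map ((σ : F →+* F) : F →* F) s)
    exact ⟨k, by show f s ^ k = _; rw [← hk, map_zpow]⟩
  · intro h1
    apply hσ
    rw [h] at h1
    have h2 : σ (s : F) = s := congrArg Units.val (hf h1)
    apply RingEquiv.ext
    intro x
    by_cases hx : x = 0
    · rw [hx, map_zero]; rfl
    · obtain ⟨k, hk⟩ := hs (Units.mk0 x hx)
      have h3 : x = ((s ^ k : Fˣ) : F) := by
        rw [← Units.val_mk0 hx]
        exact congrArg Units.val hk.symm
      rw [h3, Units.val_zpow_eq_zpow_val, map_zpow₀, h2]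
      rfl

end

/-- `TRow` for a matrix group whose coprime automorphisms are field automorphisms -/
theorem tRow_of_row {ι : Type*} [Fintype ι] [DecidableEq ι] {F : Type*} [Field F] {G : Subgroup (GL ι F)} (R : Row G)
    {r : ℕ} (H : ∀ σ : F ≃+* F, (orderOf σ).Prime → ¬ orderOf σ ∣ Nat.card ↥G → Elts r (fieldAut R.stab σ)) :
    TRow r ↥G := by
  intro p hp hpG α hα
  obtain ⟨e', σ, h1, h2⟩ := R.exists_equiv_one (MulEquiv.refl ↥G) α
    (by rw [hα]; exact (hp.coprime_iff_not_dvd).2 hpG)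
  rw [hα] at h2
  obtain ⟨e, u, h3, h4, h5, h6, h7⟩ := H σ (by rw [h2]; exact hp) (by rw [h2]; exact hpG)
  have h8 : ∀ z, e'.symm (fieldAut R.stab σ z) = α (e'.symm z) := by
    intro z
    rw [MulEquiv.symm_apply_eq, h1, e'.apply_symm_apply]
  refine ⟨e'.symm e, e'.symm u, h3.map e'.symm, by rwa [MulEquiv.orderOf_eq],
    by rwa [MulEquiv.orderOf_eq, MulEquiv.orderOf_eq], ?_, ?_⟩
  · obtain ⟨k, hk⟩ := h6
    refine ⟨k, ?_⟩
    show e'.symm e ^ k = _
    rw [← h8, ← map_zpow]
    exact congrArg e'.symm hk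
  · intro h
    apply h7
    rw [← h8] at h
    exact e'.symm.injective h

end Cfsg.Agent.H680.TRowBase
end

-- part: H680/TRowD4
section
/-!
# `TRow r (³D₄(q))` (helper680, for S4952, S4938, S4939, S4128, S4129)
-/

set_option autoImplicit false

namespace Cfsg.Agent.H680.TRowD4

open Subgroup Cfsg Cfsg.Lie
open Cfsg.Agent.H716.CopRow Cfsg.Agent.H967.CopRow Cfsg.Agent.H967.CopMat Cfsg.Agent.H680.TRowBase
open Cfsg.Agent.ChevalleyStructure Cfsg.Agent.ChevalleyStructure.SL2Hom
open Cfsg.Agent.GH.LowRankD4 (hi hi_mem hi_up hi_lo)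
open Cfsg.Agent.Cit.HexD4 (pb0 pb0_up pb0_lo pb0_mem)
open Cfsg.Agent.ChevalleyStructure.D4Cols (xU)

variable {K : Type*} [Field K]

theorem map_xU (σ : K →+* K) (r : ℕ) (t : K) : Matrix.GeneralLinearGroup.map σ (xU r t) = xU r (σ t) := by
  apply Units.ext
  show (chevD4.x K r t).map σ = chevD4.x K r (σ t)
  exact ChevStructure.FieldMap.x_map chevD4 σ r t

theorem map_pb0 (φ : K →+* K) (σ : K →+* K) (hσ : ∀ t, σ (φ t) = φ (σ t)) (g : Matrix.SpecialLinearGroup (Fin 2) K) :
    Matrix.GeneralLinearGroup.map σ (pb0 φ g) = pb0 φ (Matrix.SpecialLinearGroup.map σ g) := by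
  have e1 : ∀ u, pb0 φ (up u) = D4Fixed.X φ u := fun u => pb0_up φ u
  have e2 : ∀ u, pb0 φ (lo u) = D4Fixed.Y φ u := fun u => pb0_lo φ u
  have h : Set.EqOn ((Matrix.GeneralLinearGroup.map σ).comp (pb0 φ)) ((pb0 φ).comp (Matrix.SpecialLinearGroup.map σ))
      (Set.range (up (F := K)) ∪ Set.range (lo (F := K))) := by
    rintro _ (⟨t, rfl⟩ | ⟨t, rfl⟩)
    · show Matrix.GeneralLinearGroup.map σ (pb0 φ (up t)) = pb0 φ (Matrix.SpecialLinearGroup.map σ (up t))
      rw [GH.LowRankD4.map_up, e1, e1, D4Fixed.X, D4Fixed.X, map_mul, map_mul, map_xU, map_xU, map_xU]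
      simp only [hσ]
    · show Matrix.GeneralLinearGroup.map σ (pb0 φ (lo t)) = pb0 φ (Matrix.SpecialLinearGroup.map σ (lo t))
      rw [GH.LowRankD4.map_lo, e2, e2, D4Fixed.Y, D4Fixed.Y, map_mul, map_mul, map_xU, map_xU, map_xU]
      simp only [hσ]
  exact MonoidHom.eqOn_closure h (mem_closure_SL2 g)

theorem tRow {K : Type*} [Field K] [Fintype K] {r : ℕ} [CharP K r] {q : ℕ} (hq : IsPrimePow q)
    (hK : Fintype.card K = q ^ 3) : TRow r ↥(twistedD4 K q) := by
  have : Fact r.Prime := ⟨(CharP.char_is_prime_or_zero K r).resolve_right (CharP.char_ne_zero_of_finite K r)⟩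
  obtain ⟨φ, hφ⟩ := D4Fixed.exists_frob hq hK
  let c : ZMod r →+* K := ZMod.castHom (dvd_refl r) K
  have hcc : ∀ t, φ (c t) = c t := by
    intro t
    have h1 : (φ : K →+* K).comp c = c := Subsingleton.elim _ _
    exact congrFun (congrArg DFunLike.coe h1) t
  refine tRow_of_row (H967.CopTw.row_d4 hq hK) fun σ hp hn => ?_
  have hσ : σ ≠ 1 := by
    rintro rfl
    rw [orderOf_one] at hp
    exact Nat.not_prime_one hp
  refine crit hσ (((pb0 φ).codRestrict (twistedD4 K q) (pb0_mem hφ)).comp dgH) ?_ ?_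
    (u := (hi c).codRestrict (twistedD4 K q) (hi_mem c hφ hcc) (up 1)) ?_ ?_
  · intro s t h
    exact dgH_injective (CritD4.pb0_injective φ (congrArg Subtype.val h))
  · intro t
    apply Subtype.ext
    show Matrix.GeneralLinearGroup.map (σ : K →+* K) (pb0 φ (dgH t)) = pb0 φ (dgH _)
    rw [map_pb0 φ (σ : K →+* K) (fun t => by rw [hφ, hφ, map_pow]), map_dgH]
  · intro t
    exact (Subtype.ext (CritD4.hi_pb0 c φ (up 1) (dgH t)).eq : _).symm
  · have h1 : Function.Injective ((hi c).codRestrict (twistedD4 K q) (hi_mem c hφ hcc)) := fun a b h =>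
      CritD4.hi_injective c (congrArg Subtype.val h)
    rw [orderOf_injective _ h1]
    exact orderOf_up one_ne_zero

end Cfsg.Agent.H680.TRowD4
end
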