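import Cfsg.Agent.H641.Gow.Real_m3
import Cfsg.Agent.Characters.CCInduce
import Cfsg.Agent.Characters.Brauer
import Cfsg.Agent.H595.Central
import Cfsg.Agent.CharDeep.CliffordCorr
import Cfsg.Agent.ClassicalGeometry.PSLTorus
import Cfsg.Agent.OddCyclic.ClaimC.SzIso
import Cfsg.Agent.OddCyclic.T1SzFacts
import Cfsg.Agent.H98.SzPartition
import Cfsg.Agent.S0157
import Cfsg.Agent.FastGrp
import Cfsg.Agent.Prune
set_option linter.all false

section
prune_inst 0x7f00000000000000000000000000000000000000000000000000000000000000000000000000000000000000000000000000000000000000000000000000000000000000000000000000000000000000003fffffffffffffffffffffffffffbeffbdffffffff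

-- part: H680/GowCC
section
set_option linter.all false
open scoped Cfsg.Agent.FastGrp

/-!
# S4913: a rational-valued generalized character from a cyclic CC-subgroup

`A` is a cyclic subgroup which is the centralizer of each of its nonidentity elements, `x ∈ A` an element of prime
order `ℓ` conjugate to all its nontrivial powers. For `λ ∈ Irr A` of order `ℓ`, `Ψ = Ind (λ - 1)` is rational-valued of
norm `ℓ`, degree `0`, and `[Ψ, θ] = - conj c` if `θ` is constant `c` on `A ∖ {1}`.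
-/

set_option autoImplicit false

namespace Cfsg.Agent.H680.GowCC

open Cfsg Cfsg.Agent.Characters.Core Cfsg.Agent.Characters Cfsg.Agent.Characters.CCBasic
  Cfsg.Agent.Characters.CCOrbit Cfsg.Agent.Characters.CCInduce Cfsg.Agent.H636.Gow
  Cfsg.Agent.CharactersDeep.NormalInd
open scoped ComplexConjugate

universe u

section

variable {G : Type u} [Group G] [Fintype G] {A : Subgroup G}

omit [Fintype G] in
theorem ext_coe (θ : A → ℂ) {g : G} (hg : g ∈ A) : extendByZero A θ g = θ ⟨g, hg⟩ :=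
  Function.Injective.extend_apply Subtype.val_injective θ 0 (⟨g, hg⟩ : A)

omit [Fintype G] in
theorem ext_not (θ : A → ℂ) {g : G} (hg : g ∉ A) : extendByZero A θ g = 0 :=
  Function.extend_apply' θ (0 : G → ℂ) g (fun ⟨a, ha⟩ => hg (ha ▸ a.2))

/-- the values of an induced function at coprime powers -/
theorem indFun_pow {θ : A → ℂ} {m : ℕ} (hm : m.Coprime (Nat.card G)) (y : Subgroup.normalizer (A : Set G))
    (h : ∀ a : A, θ (a ^ m) = θ (A.normalizerMonoidHom y a)) (g : G) :
    indFun A θ (g ^ m) = indFun A θ g := by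
  rw [Core.indFun_apply, Core.indFun_apply]
  congr 1
  rw [← Equiv.sum_comp (Equiv.mulRight (y : G)⁻¹) (fun x : G => extendByZero A θ (x⁻¹ * g * x))]
  refine Finset.sum_congr rfl fun x _ => ?_
  have e1 : x⁻¹ * g ^ m * x = (x⁻¹ * g * x) ^ m := by
    have := conj_pow (a := x⁻¹) (b := g) (i := m)
    rw [inv_inv] at this
    exact this.symm
  have e2 : (Equiv.mulRight (y : G)⁻¹ x)⁻¹ * g * (Equiv.mulRight (y : G)⁻¹ x) =
      (y : G) * (x⁻¹ * g * x) * (y : G)⁻¹ := by
    show (x * (y : G)⁻¹)⁻¹ * g * (x * (y : G)⁻¹) = _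
    group
  rw [e1, e2]
  generalize x⁻¹ * g * x = k
  by_cases hk : k ∈ A
  · have hyk : (y : G) * k * (y : G)⁻¹ ∈ A := (Subgroup.mem_normalizer_iff.1 y.2 k).1 hk
    rw [ext_coe θ (pow_mem hk m), ext_coe θ hyk]
    exact h ⟨k, hk⟩
  · have h1 : k ^ m ∉ A := by
      intro h1
      apply hk
      obtain ⟨j, hj⟩ := exists_pow_eq_self_of_coprime (n := m) (x := k) (hm.coprime_dvd_right (orderOf_dvd_natCard k))
      rw [← hj]
      exact pow_mem h1 j
    have h2 : (y : G) * k * (y : G)⁻¹ ∉ A := fun h2 => hk ((Subgroup.mem_normalizer_iff.1 y.2 k).2 h2)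
    rw [ext_not θ h1, ext_not θ h2]

/-- **The generalized character of a cyclic CC-subgroup.** -/
theorem exists_psi (hA : IsCC A) (hcyc : IsCyclic A) {ℓ : ℕ} (hℓ : ℓ.Prime) {x : G} (hx : x ∈ A)
    (ho : orderOf x = ℓ) (hconj : ∀ k : ℕ, ¬ ℓ ∣ k → IsConj x (x ^ k)) :
    ∃ Ψ : G → ℂ, IsGeneralizedCharacter G Ψ ∧ (∀ g, ∃ q : ℚ, Ψ g = q) ∧ Ψ 1 = 0 ∧
      (∀ y : G, (∀ z : G, z ≠ 1 → z ∈ A → ¬ IsConj z y) → Ψ y = 0) ∧
      (∀ (θ : G → ℂ) (c : ℂ), IsClassFunction G θ → (∀ a ∈ A, a ≠ 1 → θ a = c) → classInner Ψ θ = - conj c) ∧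
      classInner Ψ Ψ = ℓ := by
  classical
  have hfA : Fintype A := Fintype.ofFinite A
  have hfN : Fintype (Subgroup.normalizer (A : Set G)) := Fintype.ofFinite _
  have hx1 : x ≠ 1 := fun h => by rw [h, orderOf_one] at ho; exact hℓ.one_lt.ne ho
  obtain ⟨g0, hg0⟩ := hcyc.exists_generator
  have hprim := Complex.isPrimitiveRoot_exp ℓ hℓ.ne_zero
  have hprimU := hprim.isUnit_unit hℓ.ne_zero
  set ζ : ℂˣ := (hprim.isUnit hℓ.ne_zero).unit with hζ
  have hordA : ℓ ∣ orderOf g0 := by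
    rw [orderOf_eq_card_of_forall_mem_zpowers hg0, ← ho, ← Subgroup.orderOf_mk x hx]
    exact orderOf_dvd_natCard _
  have hdvd : orderOf ζ ∣ orderOf g0 := by rw [← hprimU.eq_orderOf]; exact hordA
  let lam : A →* ℂˣ := monoidHomOfForallMemZpowers hg0 hdvd
  have hlam0 : lam g0 = ζ := monoidHomOfForallMemZpowers_apply_gen hg0 hdvd
  have hlamℓ : ∀ a, lam a ^ ℓ = 1 := by
    intro a
    obtain ⟨j, rfl⟩ := hg0 a
    show lam (g0 ^ j) ^ ℓ = 1
    rw [map_zpow, hlam0, ← zpow_natCast, ← zpow_mul, mul_comm, zpow_mul, zpow_natCast, hprimU.pow_eq_one, one_zpow]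
  -- the action of the normalizer
  have hact : ∀ y : Subgroup.normalizer (A : Set G), ∃ k : ℤ, ∀ a : A, A.normalizerMonoidHom y a = a ^ k := by
    intro y
    obtain ⟨k, hk⟩ := hg0 (A.normalizerMonoidHom y g0)
    refine ⟨k, fun a => ?_⟩
    obtain ⟨j, rfl⟩ := hg0 a
    have hk' : g0 ^ k = A.normalizerMonoidHom y g0 := hk
    show A.normalizerMonoidHom y (g0 ^ j) = (g0 ^ j) ^ k
    rw [map_zpow, ← hk', ← zpow_mul, ← zpow_mul, mul_comm]
  have hzp : ∀ (z : ℂˣ) (k m : ℤ), z ^ ℓ = 1 → (ℓ : ℤ) ∣ k - m → z ^ k = z ^ m := by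
    intro z k m hz hd
    obtain ⟨c, hc⟩ := hd
    have : k = m + ℓ * c := by omega
    rw [this, zpow_add, zpow_mul, zpow_natCast, hz, one_zpow, mul_one]
  -- Galois conjugation
  have hgal : ∀ m : ℕ, ¬ ℓ ∣ m → ∃ y : Subgroup.normalizer (A : Set G), (y : G) * x * (y : G)⁻¹ = x ^ m ∧
      ∀ a : A, lam (A.normalizerMonoidHom y a) = lam a ^ m := by
    intro m hm
    obtain ⟨y, hy⟩ := isConj_iff.1 (hconj m hm)
    have hyN : y ∈ Subgroup.normalizer (A : Set G) := hA.ti hx hx1 (by rw [hy]; exact pow_mem hx m)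
    obtain ⟨k, hk⟩ := hact ⟨y, hyN⟩
    refine ⟨⟨y, hyN⟩, hy, fun a => ?_⟩
    have h1 := congrArg Subtype.val (hk ⟨x, hx⟩)
    rw [coe_nmh] at h1
    have h2 : x ^ m = x ^ k := by
      rw [← hy]; exact h1
    have h3 : (ℓ : ℤ) ∣ k - m := by
      rw [← ho, orderOf_dvd_iff_zpow_eq_one, zpow_sub, zpow_natCast, h2, mul_inv_cancel]
    rw [hk, map_zpow, ← zpow_natCast]
    exact hzp _ _ _ (hlamℓ a) h3
  let l : A → ℂ := fun a => (lam a : ℂ)
  have hl : IsIrrCharacter A l := H595.Central.isIrr_hom lam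
  have hl1 : l ≠ 1 := by
    intro h
    have h1 : (lam g0 : ℂ) = 1 := congrFun h g0
    have h2 : ζ = 1 := by rw [← hlam0]; exact Units.ext h1
    have h3 := hprimU.eq_orderOf
    rw [h2, orderOf_one] at h3
    exact hℓ.one_lt.ne' h3
  have h1irr : IsIrrCharacter A (1 : A → ℂ) := isIrr_one
  have hη : (l - 1) 1 = 0 := by
    show (lam 1 : ℂ) - 1 = 0
    rw [map_one, Units.val_one, sub_self]
  -- the order of the normalizer
  have hcardN : Nat.card (Subgroup.normalizer (A : Set G)) = Nat.card A * (ℓ - 1) := by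
    let act : MulAction ↥(Subgroup.normalizer (A : Set G)) G :=
      MulAction.compHom G ((MulAut.conj : G →* MulAut G).comp (Subgroup.normalizer (A : Set G)).subtype)
    have hsm : ∀ (n : ↥(Subgroup.normalizer (A : Set G))) (x : G), n • x = (n : G) * x * (n : G)⁻¹ :=
      fun n x => rfl
    have hst : MulAction.stabilizer ↥(Subgroup.normalizer (A : Set G)) x = A.subgroupOf _ := by
      ext n
      rw [MulAction.mem_stabilizer_iff, hsm, Subgroup.mem_subgroupOf]
      constructor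
      · intro h
        exact hA.mem_of_comm hx hx1 (mul_inv_eq_iff_eq_mul.1 h)
      · intro h
        rw [hA.comm h hx, mul_inv_cancel_right]
    have horb : MulAction.orbit ↥(Subgroup.normalizer (A : Set G)) x =
        (fun k : ℕ => x ^ k) '' (↑(Finset.Ico 1 ℓ) : Set ℕ) := by
      ext z
      constructor
      · rintro ⟨n, rfl⟩
        obtain ⟨k, hk⟩ := hact n
        have h1 := congrArg Subtype.val (hk ⟨x, hx⟩)
        rw [coe_nmh] at h1
        have h2 : (n : G) * x * (n : G)⁻¹ ∈ Subgroup.zpowers x := ⟨k, h1.symm⟩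
        obtain ⟨j, hj⟩ := (mem_powers_iff_mem_zpowers.2 h2 : _ ∈ Submonoid.powers x)
        have hj' : x ^ j = (n : G) * x * (n : G)⁻¹ := hj
        refine ⟨j % ℓ, ?_, ?_⟩
        · rw [Finset.coe_Ico, Set.mem_Ico]
          refine ⟨?_, Nat.mod_lt _ hℓ.pos⟩
          rcases Nat.eq_zero_or_pos (j % ℓ) with h0 | h0
          · exfalso
            apply hx1
            have h3 : x ^ j = 1 := by
              rw [← ho] at h0
              exact orderOf_dvd_iff_pow_eq_one.1 (Nat.dvd_of_mod_eq_zero h0)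
            rw [h3] at hj'
            exact conj_eq_one_iff.1 hj'.symm
          · exact h0
        · show x ^ (j % ℓ) = n • x
          rw [hsm, ← hj', ← ho, pow_mod_orderOf]
      · rintro ⟨k, hk, rfl⟩
        rw [Finset.coe_Ico, Set.mem_Ico] at hk
        obtain ⟨y, hy, -⟩ := hgal k (Nat.not_dvd_of_pos_of_lt (by omega) hk.2)
        exact ⟨y, hy⟩
    have h1 := MulAction.index_stabilizer ↥(Subgroup.normalizer (A : Set G)) x
    rw [hst, horb, Set.InjOn.ncard_image, Set.ncard_coe_finset, Nat.card_Ico] at h1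
    · rw [← (A.subgroupOf (Subgroup.normalizer (A : Set G))).card_mul_index, h1,
        Nat.card_congr (Subgroup.subgroupOfEquivOfLe Subgroup.le_normalizer).toEquiv]
    · intro a ha b hb hab
      rw [Finset.coe_Ico, Set.mem_Ico] at ha hb
      exact pow_injOn_Iio_orderOf (by rw [ho]; exact ha.2) (by rw [ho]; exact hb.2) hab
  have hAne : (Nat.card A : ℂ) ≠ 0 := Nat.cast_ne_zero.2 Nat.card_pos.ne'
  have hsub : indFun A (l - 1) = indFun A l - indFun A 1 := indFun_sub l 1
  have hcl : IsCharacter G (indFun A l) := CharDeep.CliffordCorr.isCharacter_indFun A (isIrr_isCharacter hl)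
  have hc1 : IsCharacter G (indFun A (1 : A → ℂ)) :=
    CharDeep.CliffordCorr.isCharacter_indFun A (isIrr_isCharacter h1irr)
  have hmℓ : ∀ m : ℕ, m.Coprime (Nat.card G) → ¬ ℓ ∣ m := by
    intro m hm hd
    have h1 : ℓ ∣ Nat.card G := by rw [← ho]; exact orderOf_dvd_natCard x
    have h2 := Nat.dvd_gcd hd h1
    rw [hm] at h2
    exact hℓ.one_lt.ne' (Nat.dvd_one.1 h2)
  have hrl : ∀ g : G, ∃ q : ℚ, indFun A l g = q := by
    intro g
    rw [GaloisBasic.exists_rat_iff hcl g]
    intro m hm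
    obtain ⟨y, -, hy⟩ := hgal m (hmℓ m hm)
    refine indFun_pow hm y (fun a => ?_) g
    show (lam (a ^ m) : ℂ) = (lam (A.normalizerMonoidHom y a) : ℂ)
    rw [hy, map_pow]
  have hr1 : ∀ g : G, ∃ q : ℚ, indFun A (1 : A → ℂ) g = q := by
    intro g
    rw [GaloisBasic.exists_rat_iff hc1 g]
    intro m hm
    exact indFun_pow hm 1 (fun a => rfl) g
  refine ⟨indFun A (l - 1), ⟨_, _, hcl, hc1, hsub⟩, ?_, ?_, ?_, ?_, ?_⟩
  · intro g
    obtain ⟨a, ha⟩ := hrl g
    obtain ⟨b, hb⟩ := hr1 g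
    exact ⟨a - b, by rw [hsub, Pi.sub_apply, ha, hb]; push_cast; rfl⟩
  · rw [indFun_one, hη, mul_zero]
  · intro y hy
    exact indFun_eq_zero_of_not_conj hη hy
  · intro θ c hθ hc
    rw [CharactersDeep.NormalInd.classInner_indFun A (l - 1) θ hθ]
    have h1 : classInner (l - 1) (fun h : A => θ h) = classInner (l - 1) (c • (1 : A → ℂ)) := by
      rw [classInner_def, classInner_def]
      congr 1
      refine Finset.sum_congr rfl fun a _ => ?_
      by_cases ha : a = 1
      · subst ha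
        rw [hη, zero_mul, zero_mul]
      · rw [hc a a.2 (fun h => ha (Subtype.ext h))]
        simp
    rw [h1, classInner_smul_right, classInner_sub_left, classInner_irr_ne hl h1irr hl1, classInner_irr_self h1irr,
      zero_sub, mul_neg, mul_one]
  · rw [classInner_indFun_indFun hA _ hη]
    have h1 : ∀ y : Subgroup.normalizer (A : Set G), classInner (l - 1) (cj A y (l - 1)) =
        (if cj A y l = l then 1 else 0) + 1 := by
      intro y
      have h2 : IsIrrCharacter A (cj A y l) := isIrr_cj A y hl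
      have h3 : cj A y l ≠ 1 := by
        intro h
        apply hl1
        apply cj_injective A y
        rw [h]
        rfl
      rw [cj_sub, cj_const_one, classInner_sub_right, classInner_sub_left, classInner_sub_left,
        classInner_irr_ne hl h1irr hl1, classInner_irr_self h1irr, classInner_irr_ne h1irr h2 (Ne.symm h3),
        classInner_irr hl h2]
      by_cases h4 : cj A y l = l
      · rw [if_pos h4.symm, if_pos h4]; ring
      · rw [if_neg (fun h => h4 h.symm), if_neg h4]; ring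
    rw [Finset.sum_congr rfl fun y _ => h1 y, Finset.sum_add_distrib, Finset.sum_boole, Finset.sum_const,
      Finset.card_univ, ← Nat.card_eq_fintype_card, hcardN,
      card_cj_eq hA hl hl1 1 (cj_one A l), nsmul_eq_mul, mul_one]
    have h2 : 1 ≤ ℓ := hℓ.one_lt.le
    push_cast [Nat.cast_sub h2]
    field_simp
    ring

/-- **Cyclic CC-subgroups with a real element of order three.** -/
theorem ratOdd_of_three (hA : IsCC A) (hcyc : IsCyclic A) {x : G} (hx : x ∈ A)
    (ho : orderOf x = 3) (hconj : IsConj x (x ^ 2)) : RatOdd G := by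
  have hc : ∀ k : ℕ, ¬ 3 ∣ k → IsConj x (x ^ k) := by
    intro k hk
    have h1 : x ^ k = x ^ (k % 3) := by rw [← ho, pow_mod_orderOf]
    have h2 : k % 3 = 1 ∨ k % 3 = 2 := by omega
    rcases h2 with h2 | h2
    · rw [h1, h2, pow_one]
    · rw [h1, h2]; exact hconj
  obtain ⟨Ψ, h1, h2, h3, -, h5, h6⟩ := exists_psi hA hcyc Nat.prime_three hx ho hc
  have h7 : classInner Ψ 1 = -1 := by
    rw [h5 1 1 (isIrr_isClassFunction isIrr_one) (fun _ _ _ => rfl), map_one]
  have h8 : classInner (1 : G → ℂ) Ψ = -1 := by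
    rw [← classInner_conj_symm, h7, map_neg, map_one]
  have h9 : classInner (1 : G → ℂ) 1 = 1 := classInner_irr_self isIrr_one
  refine ratOdd_of_norm_le_two (ψ := Ψ + 1) (n := 2)
    (Brauer.isGeneralizedCharacter_add h1
      (Brauer.isGeneralizedCharacter_of_isCharacter (isIrr_isCharacter isIrr_one))) (fun g => ?_) ?_ ⟨1, odd_one, ?_⟩
    ?_ le_rfl
  · obtain ⟨q, hq⟩ := h2 g
    exact ⟨q + 1, by rw [Pi.add_apply, hq, Pi.one_apply]; push_cast; rfl⟩
  · rw [classInner_add_left, h7, h9, neg_add_cancel]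
  · rw [Pi.add_apply, h3, zero_add, Pi.one_apply, Int.cast_one]
  · rw [classInner_add_left, classInner_add_right, classInner_add_right, h6, h7, h8, h9]
    push_cast
    ring

end

/-! ### `SL₂` in characteristic two -/

section sl

open Matrix

variable {F : Type u} [Field F] [CharP F 2]

omit [CharP F 2] in
theorem sl_ext {y z : _root_.Matrix.SpecialLinearGroup (Fin 2) F}
    (h : (y : Matrix (Fin 2) (Fin 2) F) = (z : Matrix (Fin 2) (Fin 2) F)) : y = z := Subtype.ext h

omit [CharP F 2] in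
theorem sl_mul (y z : _root_.Matrix.SpecialLinearGroup (Fin 2) F) :
    ((y * z : _root_.Matrix.SpecialLinearGroup (Fin 2) F) : Matrix (Fin 2) (Fin 2) F) =
      (y : Matrix (Fin 2) (Fin 2) F) * (z : Matrix (Fin 2) (Fin 2) F) := rfl

/-- an element of order three -/
def X3 (F : Type u) [Field F] [CharP F 2] : _root_.Matrix.SpecialLinearGroup (Fin 2) F :=
  ⟨!![0, 1; 1, 1], by rw [det_fin_two_of, CharTwo.sub_eq_add]; ring⟩

/-- an involution inverting it -/
def W2 (F : Type u) [Field F] [CharP F 2] : _root_.Matrix.SpecialLinearGroup (Fin 2) F :=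
  ⟨!![0, 1; 1, 0], by rw [det_fin_two_of, CharTwo.sub_eq_add]; ring⟩

theorem X3_sq : ((X3 F ^ 2 : _root_.Matrix.SpecialLinearGroup (Fin 2) F) : Matrix (Fin 2) (Fin 2) F) = !![1, 1; 1, 0] := by
  have h2 : (1 : F) + 1 = 0 := CharTwo.add_self_eq_zero 1
  rw [pow_two, sl_mul]
  show !![0, 1; 1, 1] * !![0, 1; 1, 1] = _
  rw [mul_fin_two]
  ext i j
  (revert i j; simp [h2, _root_.Fin.forall_fin_succ])

theorem X3_pow : X3 F ^ 3 = 1 := by
  have h2 : (1 : F) + 1 = 0 := CharTwo.add_self_eq_zero 1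
  apply sl_ext
  rw [pow_succ, sl_mul, X3_sq]
  show !![1, 1; 1, 0] * !![0, 1; 1, 1] = (1 : Matrix (Fin 2) (Fin 2) F)
  rw [mul_fin_two]
  ext i j
  (revert i j; simp only [h2, _root_.Fin.forall_fin_succ, _root_.MulZeroClass.mul_zero, _root_.mul_one, _root_.zero_add, _root_.add_zero, _root_.Matrix.of_apply, _root_.Matrix.cons_val', _root_.Matrix.cons_val_fin_one, Fin.isValue, _root_.Matrix.cons_val_zero, _root_.Matrix.cons_val_succ, _root_.IsEmpty.forall_iff, _root_.and_true, _root_.Matrix.one_apply_eq, Nat.reduceAdd, _root_.Fin.succ_zero_eq_one, _root_.ne_eq, _root_.zero_ne_one, _root_.not_false_eq_true, _root_.Matrix.one_apply_ne, _root_.and_self, _root_.Fin.succ_ne_zero, _root_.true_and])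

theorem X3_ne : X3 F ≠ 1 := by
  intro h
  have h1 := congrArg (fun g : _root_.Matrix.SpecialLinearGroup (Fin 2) F => (g : Matrix (Fin 2) (Fin 2) F) 0 1) h
  exact one_ne_zero (α := F) (by simp only [X3, _root_.Fin.isValue, _root_.Matrix.of_apply, _root_.Matrix.cons_val', _root_.Matrix.cons_val_one, _root_.Matrix.cons_val_fin_one, _root_.Matrix.cons_val_zero, _root_.Matrix.SpecialLinearGroup.coe_one, _root_.ne_eq, _root_.zero_ne_one, _root_.not_false_eq_true, _root_.Matrix.one_apply_ne, _root_.one_ne_zero] at h1)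

theorem order_X3 : orderOf (X3 F) = 3 := orderOf_eq_prime X3_pow X3_ne

theorem conj_X3 : IsConj (X3 F) (X3 F ^ 2) := by
  rw [isConj_iff]
  refine ⟨W2 F, ?_⟩
  rw [mul_inv_eq_iff_eq_mul]
  apply sl_ext
  rw [sl_mul, sl_mul, X3_sq]
  show !![0, 1; 1, 0] * !![0, 1; 1, 1] = !![1, 1; 1, 0] * !![0, 1; 1, 0]
  rw [mul_fin_two, mul_fin_two]
  ext i j
  (revert i j; simp [_root_.Fin.forall_fin_succ])

/-- the centralizer of the element of order three -/
theorem mem_cent {y : _root_.Matrix.SpecialLinearGroup (Fin 2) F} :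
    y ∈ Subgroup.centralizer ({X3 F} : Set (_root_.Matrix.SpecialLinearGroup (Fin 2) F)) ↔
      y 1 0 = y 0 1 ∧ y 1 1 = y 0 0 + y 0 1 := by
  rw [Subgroup.mem_centralizer_singleton_iff]
  have h2 : (1 : F) + 1 = 0 := CharTwo.add_self_eq_zero 1
  have hL : ((y * X3 F : _root_.Matrix.SpecialLinearGroup (Fin 2) F) : Matrix (Fin 2) (Fin 2) F) =
      !![y 0 1, y 0 0 + y 0 1; y 1 1, y 1 0 + y 1 1] := by
    rw [sl_mul]
    ext i j
    (revert i j; simp only [X3, Matrix.mul_apply, Fin.sum_univ_two, _root_.Fin.forall_fin_succ, _root_.Matrix.of_apply, _root_.Matrix.cons_val', _root_.Matrix.cons_val_fin_one, Fin.isValue, _root_.Matrix.cons_val_zero, _root_.Matrix.cons_val_one, _root_.MulZeroClass.mul_zero, _root_.mul_one, _root_.zero_add, _root_.Matrix.cons_val_succ, _root_.forall_const, _root_.and_self, _root_.Fin.succ_zero_eq_one, _root_.IsEmpty.forall_iff])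
  have hR : ((X3 F * y : _root_.Matrix.SpecialLinearGroup (Fin 2) F) : Matrix (Fin 2) (Fin 2) F) =
      !![y 1 0, y 1 1; y 0 0 + y 1 0, y 0 1 + y 1 1] := by
    rw [sl_mul]
    ext i j
    (revert i j; simp only [X3, Matrix.mul_apply, Fin.sum_univ_two, _root_.Fin.forall_fin_succ, _root_.Matrix.of_apply, _root_.Matrix.cons_val', _root_.Matrix.cons_val_fin_one, Fin.isValue, _root_.Matrix.cons_val_zero, _root_.Matrix.cons_val_one, _root_.Matrix.cons_val_succ, _root_.Fin.succ_zero_eq_one, _root_.IsEmpty.forall_iff, _root_.and_true, _root_.MulZeroClass.zero_mul, _root_.one_mul, _root_.zero_add, _root_.and_self, _root_.implies_true])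
  constructor
  · intro h
    have h3 := congrArg Subtype.val h
    have h3' : (!![y 0 1, y 0 0 + y 0 1; y 1 1, y 1 0 + y 1 1] : Matrix (Fin 2) (Fin 2) F) =
      !![y 1 0, y 1 1; y 0 0 + y 1 0, y 0 1 + y 1 1] := by rw [← hL, ← hR]; exact h3
    have h4 := congrFun (congrFun h3' 0) 0
    have h5 := congrFun (congrFun h3' 0) 1
    simp only [_root_.Fin.isValue, _root_.Matrix.of_apply, _root_.Matrix.cons_val', _root_.Matrix.cons_val_zero, _root_.Matrix.cons_val_fin_one, _root_.Matrix.cons_val_one] at h4 h5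
    exact ⟨h4.symm, h5.symm⟩
  · rintro ⟨h3, h4⟩
    apply sl_ext
    rw [hL, hR, h3, h4]

theorem det_cent {y : _root_.Matrix.SpecialLinearGroup (Fin 2) F}
    (hy : y ∈ Subgroup.centralizer ({X3 F} : Set (_root_.Matrix.SpecialLinearGroup (Fin 2) F))) :
    y 0 0 * y 0 0 + y 0 0 * y 0 1 + y 0 1 * y 0 1 = 1 := by
  obtain ⟨h1, h2⟩ := mem_cent.1 hy
  have h3 := y.det_coe
  rw [det_fin_two, h1, h2, CharTwo.sub_eq_add] at h3
  linear_combination h3

theorem cc_cent : IsCC (Subgroup.centralizer ({X3 F} : Set (_root_.Matrix.SpecialLinearGroup (Fin 2) F))) where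
  ne_bot := by
    intro h
    have h1 : X3 F ∈ Subgroup.centralizer ({X3 F} : Set (_root_.Matrix.SpecialLinearGroup (Fin 2) F)) :=
      Subgroup.mem_centralizer_singleton_iff.2 rfl
    rw [h, Subgroup.mem_bot] at h1
    exact X3_ne h1
  cent := by
    intro y hy hy1
    obtain ⟨h1, h2⟩ := mem_cent.1 hy
    have hdet := det_cent hy
    have hb : y 0 1 ≠ 0 := by
      intro hb
      apply hy1
      rw [hb, mul_zero, mul_zero, add_zero, add_zero] at hdet
      have ha : y 0 0 = 1 := by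
        have h3 : (y 0 0 + 1) * (y 0 0 + 1) = 0 := by
          have h4 : (1 : F) + 1 = 0 := CharTwo.add_self_eq_zero 1
          linear_combination hdet + (y 0 0 + 1) * h4
        have h5 := mul_self_eq_zero.1 h3
        rw [← CharTwo.sub_eq_add] at h5
        exact sub_eq_zero.1 h5
      apply sl_ext
      ext i j
      fin_cases i <;> fin_cases j
      · exact ha
      · exact hb
      · exact h1.trans hb
      · refine h2.trans ?_
        rw [ha, hb, add_zero]
        rfl
    have hyX : (y : Matrix (Fin 2) (Fin 2) F) = y 0 0 • (1 : Matrix (Fin 2) (Fin 2) F) +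
        y 0 1 • (X3 F : Matrix (Fin 2) (Fin 2) F) := by
      ext i j
      (revert i j; simp only [X3, h1, h2, _root_.Fin.forall_fin_succ, Fin.isValue, _root_.Matrix.smul_of, _root_.Matrix.smul_cons, _root_.smul_eq_mul, _root_.MulZeroClass.mul_zero, _root_.mul_one, _root_.Matrix.smul_empty, _root_.Matrix.add_apply, _root_.Matrix.smul_apply, _root_.Matrix.of_apply, _root_.Matrix.cons_val', _root_.Matrix.cons_val_fin_one, _root_.Matrix.cons_val_zero, _root_.Matrix.cons_val_succ, _root_.Fin.succ_zero_eq_one, _root_.IsEmpty.forall_iff, _root_.and_true, _root_.Matrix.one_apply_eq, _root_.add_zero, Nat.reduceAdd, _root_.ne_eq, _root_.zero_ne_one, _root_.not_false_eq_true, _root_.Matrix.one_apply_ne, _root_.zero_add, _root_.and_self, _root_.Fin.succ_ne_zero])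
    ext z
    rw [Subgroup.mem_centralizer_singleton_iff, Subgroup.mem_centralizer_singleton_iff]
    have e1 : z * y = y * z ↔ (z : Matrix (Fin 2) (Fin 2) F) * y = y * z := by
      rw [← sl_mul, ← sl_mul]
      exact ⟨fun h => by rw [h], fun h => sl_ext h⟩
    have e2 : z * X3 F = X3 F * z ↔ (z : Matrix (Fin 2) (Fin 2) F) * (X3 F : Matrix (Fin 2) (Fin 2) F) =
        (X3 F : Matrix (Fin 2) (Fin 2) F) * z := by
      rw [← sl_mul, ← sl_mul]
      exact ⟨fun h => by rw [h], fun h => sl_ext h⟩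
    rw [e1, e2, hyX, mul_add, add_mul, Matrix.mul_smul, Matrix.smul_mul, Matrix.mul_smul, Matrix.smul_mul, mul_one, one_mul, add_right_inj]
    constructor
    · intro h
      exact smul_right_injective _ hb h
    · intro h
      rw [h]

theorem cyc_cent [Finite F] : IsCyclic (Subgroup.centralizer ({X3 F} : Set (_root_.Matrix.SpecialLinearGroup (Fin 2) F))) := by
  have hL2 : CharP (AlgebraicClosure F) 2 := charP_of_injective_algebraMap (algebraMap F _).injective 2
  obtain ⟨ω, hω⟩ := IsAlgClosed.exists_root (k := AlgebraicClosure F)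
    (Polynomial.X ^ 2 + Polynomial.X + Polynomial.C 1) (by
      have : (Polynomial.X ^ 2 + Polynomial.X + Polynomial.C 1 : Polynomial (AlgebraicClosure F)).degree = 2 := by
        compute_degree!
      rw [this]
      norm_num)
  have hω2 : ω ^ 2 + ω + 1 = 0 := by simpa only [Polynomial.IsRoot.def, _root_.map_one, _root_.Polynomial.eval_add, _root_.Polynomial.eval_pow, _root_.Polynomial.eval_X, _root_.Polynomial.eval_one] using hω
  have h4 : (1 : AlgebraicClosure F) + 1 = 0 := CharTwo.add_self_eq_zero 1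
  have hω3 : ω * ω = ω + 1 := by linear_combination hω2 - (ω + 1) * h4
  let i := algebraMap F (AlgebraicClosure F)
  let f : ↥(Subgroup.centralizer ({X3 F} : Set (_root_.Matrix.SpecialLinearGroup (Fin 2) F))) →* AlgebraicClosure F :=
    { toFun := fun y => i ((y : _root_.Matrix.SpecialLinearGroup (Fin 2) F) 0 0) + i ((y : _root_.Matrix.SpecialLinearGroup (Fin 2) F) 0 1) * ω
      map_one' := by
        show i ((1 : Matrix (Fin 2) (Fin 2) F) 0 0) + i ((1 : Matrix (Fin 2) (Fin 2) F) 0 1) * ω = 1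
        simp
      map_mul' := by
        rintro ⟨y, hy⟩ ⟨z, hz⟩
        obtain ⟨y1, y2⟩ := mem_cent.1 hy
        obtain ⟨z1, z2⟩ := mem_cent.1 hz
        have m0 : (y * z) 0 0 = y 0 0 * z 0 0 + y 0 1 * z 0 1 := by
          show (((y * z : _root_.Matrix.SpecialLinearGroup (Fin 2) F) : Matrix (Fin 2) (Fin 2) F)) 0 0 = _
          rw [sl_mul, Matrix.mul_apply, Fin.sum_univ_two, z1]
        have m1 : (y * z) 0 1 = y 0 0 * z 0 1 + y 0 1 * (z 0 0 + z 0 1) := by
          show (((y * z : _root_.Matrix.SpecialLinearGroup (Fin 2) F) : Matrix (Fin 2) (Fin 2) F)) 0 1 = _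
          rw [sl_mul, Matrix.mul_apply, Fin.sum_univ_two, z2]
        show i ((y * z) 0 0) + i ((y * z) 0 1) * ω = (i (y 0 0) + i (y 0 1) * ω) * (i (z 0 0) + i (z 0 1) * ω)
        rw [m0, m1]
        simp only [map_add, map_mul]
        linear_combination - i (y 0 1) * i (z 0 1) * hω3 }
  have hfin : Finite (_root_.Matrix.SpecialLinearGroup (Fin 2) F) := inferInstance
  refine isCyclic_of_injective_ringHom f ?_
  rw [injective_iff_map_eq_one]
  rintro ⟨y, hy⟩ hfy
  obtain ⟨y1, y2⟩ := mem_cent.1 hy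
  have hdet := congrArg i (det_cent hy)
  simp only [map_add, map_mul, map_one] at hdet
  have h5 : i (y 0 0) + i (y 0 1) * ω = 1 := hfy
  -- the conjugate value
  have h6 : i (y 0 0) + i (y 0 1) * (ω + 1) = 1 := by
    have h7 : (i (y 0 0) + i (y 0 1) * ω) * (i (y 0 0) + i (y 0 1) * (ω + 1)) = 1 := by
      linear_combination hdet + i (y 0 1) * i (y 0 1) * hω3 + (i (y 0 0) * i (y 0 1) * ω +
        i (y 0 1) * i (y 0 1) * ω) * h4
    rwa [h5, one_mul] at h7
  have h8 : i (y 0 1) = 0 := by linear_combination h6 - h5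
  have h9 : y 0 1 = 0 := (map_eq_zero i).1 h8
  have h10 : y 0 0 = 1 := by
    rw [h8, zero_mul, add_zero] at h5
    exact i.injective (by rw [h5, map_one])
  apply Subtype.ext
  apply sl_ext
  ext a b
  fin_cases a <;> fin_cases b
  · exact h10
  · exact h9
  · exact y1.trans h9
  · refine y2.trans ?_
    rw [h10, h9, add_zero]
    rfl

/-- `SL₂(q)`, `q` even -/
theorem ratOdd_sl [Finite F] : RatOdd (_root_.Matrix.SpecialLinearGroup (Fin 2) F) := by
  have hfin : Finite (_root_.Matrix.SpecialLinearGroup (Fin 2) F) := inferInstance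
  have := Fintype.ofFinite (_root_.Matrix.SpecialLinearGroup (Fin 2) F)
  exact ratOdd_of_three cc_cent cyc_cent (Subgroup.mem_centralizer_singleton_iff.2 rfl) order_X3 conj_X3

end sl

/-- **`PSL₂(q)`, `q` even** (task 912) -/
theorem psl_two (F : Type*) [Field F] [Fintype F] [CharP F 2] (_hF : 4 ≤ Fintype.card F) :
    RatOdd (Matrix.ProjectiveSpecialLinearGroup (Fin 2) F) := by
  have h2 : (2 : F) = 0 := CharTwo.two_eq_zero
  have hinj : Function.Injective (ClassicalGeometry.PSLTorus.pr F) := by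
    intro a b hab
    rcases (ClassicalGeometry.PSLTorus.pr_eq_iff a b).1 hab with h | h
    · exact h
    · rw [h, neg_eq_neg_one_mul, ClassicalGeometry.PSLTorus.neg_one_eq_one h2, one_mul]
  exact RatOdd.of_equiv (MulEquiv.ofBijective (ClassicalGeometry.PSLTorus.pr F)
    ⟨hinj, ClassicalGeometry.PSLTorus.pr_surjective F⟩).symm ratOdd_sl

end Cfsg.Agent.H680.GowCC

private theorem dce_2b13f8721339 : _root_.True := by
  try have : _root_.True := by simp only [_root_.Cfsg.Agent.H680.GowCC.X3.eq_1]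
  exact _root_.True.intro
end

-- part: H680/GowSz
section
set_option linter.all false
open scoped Cfsg.Agent.FastGrp

/-!
# S4913: the Suzuki groups

`ψ = Ψ + 1 - (π - 1)`, `Ψ` of norm five from the cyclic CC-subgroup with an element of order five, `π` the permutation
character of degree `q² + 1`. It has norm three, and `[1_⟨z⟩^G, ψ] = (2 - q²) / 2 ≡ - 1 (mod 3)` for an involution `z`.
-/

set_option autoImplicit false

namespace Cfsg.Agent.H680.GowSz

open Cfsg Cfsg.Agent.Characters.Core Cfsg.Agent.Characters Cfsg.Agent.Characters.CCBasic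
  Cfsg.Agent.H636.Gow Cfsg.Agent.H680.GowCC MulAction
open Cfsg.Agent.LieExceptional Cfsg.Agent.LieExceptional.SuzukiSylow
open Cfsg.Agent.H98.SzBasic Cfsg.Agent.H98.SzPartition
open Cfsg.Agent.OddCyclic.ClaimC.SzIso (jj jj_val jj_injective range_eq)
open scoped ComplexConjugate

variable {F : Type} [Field F] [Fintype F] {m : ℕ}

/-- the isomorphism between the two models -/
noncomputable def iso (hm : 1 ≤ m) (hF : Fintype.card F = 2 ^ (2 * m + 1)) :
    Cfsg.Sz F m ≃* ↥(Cfsg.Lie.Sz F (2 ^ (m + 1))) :=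
  MulEquiv.ofBijective ((jj F m).codRestrict _ (fun g => by rw [range_eq hm hF]; exact ⟨g, rfl⟩)) ⟨by
    intro g h hgh
    exact jj_injective (congrArg Subtype.val hgh), by
    rintro ⟨g, hg⟩
    rw [range_eq hm hF] at hg
    obtain ⟨g0, h⟩ := hg
    exact ⟨g0, Subtype.ext h⟩⟩

theorem five_ndvd (m : ℕ) : ¬ 5 ∣ 2 ^ (2 * m + 1) - 1 := by
  intro h
  have h1 : 1 ≤ 2 ^ (2 * m + 1) := Nat.one_le_two_pow
  have h2 : 2 ^ (2 * m + 1) % 5 = 2 ∨ 2 ^ (2 * m + 1) % 5 = 3 := by
    induction m with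
    | zero => left; norm_num
    | succ k ih =>
      rw [show 2 * (k + 1) + 1 = (2 * k + 1) + 2 by ring, pow_add]
      have hk : 2 ^ (2 * k + 1) % 5 = 2 ∨ 2 ^ (2 * k + 1) % 5 = 3 := by
        clear ih h h1
        induction k with
        | zero => left; norm_num
        | succ l ih => rw [show 2 * (l + 1) + 1 = (2 * l + 1) + 2 by ring, pow_add]; (solve | lia | omega)
      (clear * - hk; solve | lia | omega)
  omega

theorem three_mod (m : ℕ) : 2 ^ (2 * m + 1) % 3 = 2 := by
  induction m with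
  | zero => norm_num
  | succ k ih => rw [show 2 * (k + 1) + 1 = (2 * k + 1) + 2 by ring, pow_add]; omega

theorem ratOdd_sz (hm : 1 ≤ m) (hF : Fintype.card F = 2 ^ (2 * m + 1)) : RatOdd (Cfsg.Sz F m) := by
  have hfin := finite_ovoid F m
  have : Fact (Nat.Prime 2) := ⟨Nat.prime_two⟩
  have hfG : Finite (Cfsg.Sz F m) := inferInstance
  have := Fintype.ofFinite (Cfsg.Sz F m)
  have hSz : Cfsg.Lie.IsoSuzuki (Cfsg.Sz F m) := ⟨F, inferInstance, inferInstance, m, hm, hF, ⟨iso hm hF⟩⟩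
  obtain ⟨P⟩ : Nonempty (Sylow 2 (Cfsg.Sz F m)) := inferInstance
  obtain ⟨y, s, hy1, -, hy5, -, -, -, -, hsy, -⟩ := OddCyclic.T1SzFacts.exists_five hSz P
  -- the torus
  set A : Subgroup (Cfsg.Sz F m) := Subgroup.centralizer {y} with hAdef
  have hyA : y ∈ A := Subgroup.mem_centralizer_singleton_iff.2 rfl
  obtain ⟨hcyc, hcard⟩ : IsCyclic A ∧ Nat.card A ∈ torusOrders m := by
    rcases sylow_or_torus hm hF hy1 with ⟨Q, hQ⟩ | h
    · exfalso
      obtain ⟨k, hk⟩ := Q.2 ⟨y, hQ⟩
      have h2 : y ^ 2 ^ k = 1 := congrArg Subtype.val hk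
      have h3 : orderOf y ∣ 2 ^ k := orderOf_dvd_of_pow_eq_one h2
      rw [hy5] at h3
      have h4 := (Nat.Prime.dvd_of_dvd_pow Nat.prime_five h3)
      norm_num at h4
    · exact h
  have h5A : 5 ∣ Nat.card A := by
    rw [← hy5]
    exact Subgroup.orderOf_dvd_natCard _ hyA
  have hcent : ∀ z : Cfsg.Sz F m, z ∈ A → z ≠ 1 → Subgroup.centralizer {z} = A := fun z hz hz1 =>
    (eq_centralizer hm hF hz1 hz hcyc hcard).symm
  have hCC : IsCC A := ⟨fun h => hy1 (by rw [h, Subgroup.mem_bot] at hyA; exact hyA), fun z hz hz1 => hcent z hz hz1⟩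
  have hconj : ∀ k : ℕ, ¬ 5 ∣ k → IsConj y (y ^ k) := by
    intro k hk
    have h1 : y ^ k = y ^ (k % 5) := by rw [← hy5, pow_mod_orderOf]
    have h3 : IsConj y (y ^ 3) := isConj_iff.2 ⟨s, hsy⟩
    have h9 : IsConj (y ^ 3) (y ^ 4) := by
      rw [isConj_iff]
      refine ⟨s, ?_⟩
      rw [← conj_pow, hsy, ← pow_mul, show y ^ (3 * 3) = y ^ ((3 * 3) % 5) by rw [← hy5, pow_mod_orderOf]]
    have h27 : IsConj (y ^ 4) (y ^ 2) := by
      rw [isConj_iff]
      refine ⟨s, ?_⟩
      rw [← conj_pow, hsy, ← pow_mul, show y ^ (3 * 4) = y ^ ((3 * 4) % 5) by rw [← hy5, pow_mod_orderOf]]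
    have h2 : k % 5 = 1 ∨ k % 5 = 2 ∨ k % 5 = 3 ∨ k % 5 = 4 := by omega
    rcases h2 with h2 | h2 | h2 | h2
    · rw [h1, h2, pow_one]
    · rw [h1, h2]; exact (h3.trans h9).trans h27
    · rw [h1, h2]; exact h3
    · rw [h1, h2]; exact h3.trans h9
  obtain ⟨Ψ, p1, p2, p3, p4, p5, p6⟩ := exists_psi hCC hcyc Nat.prime_five hyA hy5 hconj
  -- the elements of the torus have no fixed points
  have hfree : ∀ a ∈ A, a ≠ 1 → Nat.card (fixedBy (Cfsg.suzukiOvoid F m) a) = 0 := by
    intro a ha ha1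
    have hca := hcent a ha ha1
    rcases trichotomy hm hF ha1 with h | ⟨g, k, hk, e⟩ | ⟨g, a', b', hab, e⟩
    · exact h
    · exfalso
      obtain ⟨h1, -⟩ := card_centralizer_of_conj_h hm hF hk e
      rw [hca] at h1
      rw [h1] at h5A
      exact five_ndvd m h5A
    · exfalso
      have h4 : (u hF a' b' : Cfsg.Sz F m) ^ 4 = 1 := by
        have := qu_pow_four hF a' b'
        exact congrArg Subtype.val this
      have h5 : a ^ 4 = 1 := by
        have h6 : (g * a * g⁻¹) ^ 4 = 1 := by rw [e, h4]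
        rw [conj_pow, conj_eq_one_iff] at h6
        exact h6
      have h6 : orderOf a ∣ 2 ^ 2 := orderOf_dvd_of_pow_eq_one h5
      have h7 : orderOf a ∣ Nat.card A := Subgroup.orderOf_dvd_natCard _ ha
      have h8 : Nat.Coprime (2 ^ 2) (Nat.card A) := (Nat.coprime_two_left.2 (odd_of_mem hcard)).pow_left 2
      exact ha1 (orderOf_eq_one_iff.1 (Nat.eq_one_of_dvd_coprimes h8 h6 h7))
  -- the permutation character
  have h2p := SuzukiBasic.two_pretransitive (F := F) (m := m) hF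
  have h1p : IsPretransitive (Cfsg.Sz F m) (Cfsg.suzukiOvoid F m) := ⟨fun p q => by
    obtain ⟨g, hg⟩ := exists_move_inf (m := m) hF p
    obtain ⟨g', hg'⟩ := exists_move_inf (m := m) hF q
    exact ⟨g'⁻¹ * g, by rw [mul_smul, hg, ← hg', inv_smul_smul]⟩⟩
  have hne : Nonempty (Cfsg.suzukiOvoid F m) := ⟨inf F m⟩
  have hX : Nat.card (Cfsg.suzukiOvoid F m) = (2 ^ (2 * m + 1)) ^ 2 + 1 := by
    rw [SuzukiBasic.ovoid_card, Nat.card_eq_fintype_card, hF]
  have hrank : Nat.card (Quotient (orbitRel (Cfsg.Sz F m) (Cfsg.suzukiOvoid F m × Cfsg.suzukiOvoid F m))) = 2 := by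
    refine (S0157.two_pretransitive_iff_card_orbits _ _ ?_).1 h2p
    rw [hX]
    have : 1 ≤ (2 ^ (2 * m + 1)) ^ 2 := Nat.one_le_pow _ _ (by positivity)
    omega
  obtain ⟨χ, hχ⟩ : ∃ χ : Cfsg.Sz F m → ℂ, χ = fun g => (Nat.card (fixedBy (Cfsg.suzukiOvoid F m) g) : ℂ) - 1 :=
    ⟨_, rfl⟩
  obtain ⟨q1, q2, q3, q4, q5⟩ := H707.Rank.norm_permChar (G := Cfsg.Sz F m) (Cfsg.suzukiOvoid F m) hχ
  rw [hrank] at q4
  rw [hX] at q5
  have hχc : IsClassFunction (Cfsg.Sz F m) χ := by
    obtain ⟨α, β, ha, hb, h⟩ := q1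
    rw [h]
    intro g x
    rw [Pi.sub_apply, Pi.sub_apply, isCharacter_isClassFunction ha g x, isCharacter_isClassFunction hb g x]
  have e1 : classInner Ψ 1 = -1 := by
    rw [p5 1 1 (isIrr_isClassFunction isIrr_one) (fun _ _ _ => rfl), map_one]
  have e1' : classInner (1 : Cfsg.Sz F m → ℂ) Ψ = -1 := by
    rw [← classInner_conj_symm, e1, map_neg, map_one]
  have e2 : classInner (1 : Cfsg.Sz F m → ℂ) 1 = 1 := classInner_irr_self isIrr_one
  have e3 : classInner Ψ χ = 1 := by
    rw [p5 χ (-1) hχc (fun a ha ha1 => by rw [hχ]; simp only [hfree a ha ha1]; norm_num)]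
    simp
  have e3' : classInner χ Ψ = 1 := by
    rw [← classInner_conj_symm, e3, map_one]
  have e4 : classInner (1 : Cfsg.Sz F m → ℂ) χ = 0 := by
    rw [← classInner_conj_symm, q3, map_zero]
  set ψ : Cfsg.Sz F m → ℂ := Ψ + 1 - χ with hψ
  have g1 : IsGeneralizedCharacter (Cfsg.Sz F m) ψ := Brauer.isGeneralizedCharacter_sub
    (Brauer.isGeneralizedCharacter_add p1 (Brauer.isGeneralizedCharacter_of_isCharacter
      (isIrr_isCharacter isIrr_one))) q1
  have g2 : ∀ g, ∃ q : ℚ, ψ g = q := by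
    intro g
    obtain ⟨a, ha⟩ := p2 g
    obtain ⟨b, hb⟩ := q2 g
    refine ⟨a + 1 - b, ?_⟩
    rw [hψ, Pi.sub_apply, Pi.add_apply, ha, hb, Pi.one_apply]
    push_cast
    rfl
  have g3 : classInner ψ 1 = 0 := by
    rw [hψ, classInner_sub_left, classInner_add_left, e1, e2, q3]
    norm_num
  have g4 : classInner ψ ψ = (3 : ℕ) := by
    rw [hψ, classInner_sub_left, classInner_add_left, classInner_sub_right, classInner_sub_right,
      classInner_sub_right, classInner_add_right, classInner_add_right, classInner_add_right, e1, e2, q3, p6, e3,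
      e3', e1', e4, q4]
    norm_num
  have g5 : ψ 1 = ((1 - (2 ^ (2 * m + 1)) ^ 2 : ℤ) : ℂ) := by
    rw [hψ, Pi.sub_apply, Pi.add_apply, p3, q5, Pi.one_apply]
    push_cast
    ring
  -- the involution
  set z : Cfsg.Sz F m := u hF 0 1 with hz
  have hz2 : z * z = 1 := by
    rw [hz, u_mul, ← u_zero_zero hF]
    (with_reducible congr 1)
    · ring
    · rw [mul_zero, add_zero]
      exact SuzukiBasic.add_self hF 1
  have hz1 : z ≠ 1 := by
    intro h
    exact one_ne_zero ((u_eq_one_iff hF _ _).1 h).2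
  have hπz : Nat.card (fixedBy (Cfsg.suzukiOvoid F m) z) = 1 := by
    rw [Nat.card_eq_one_iff_unique]
    refine ⟨⟨fun a b => Subtype.ext ?_⟩, ⟨⟨inf F m, u_smul_inf hF 0 1⟩⟩⟩
    have h0 : ¬ ((0 : F) = 0 ∧ (1 : F) = 0) := fun h => one_ne_zero h.2
    rw [u_fix hF h0 a.2, u_fix hF h0 b.2]
  have hΨz : Ψ z = 0 := by
    apply p4
    rintro a ha1 haA hc
    obtain ⟨g, hg⟩ := isConj_iff.1 hc
    have h1 : (g * a * g⁻¹) ^ 2 = 1 := by rw [hg, pow_two, hz2]
    rw [conj_pow, conj_eq_one_iff] at h1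
    have h6 : orderOf a ∣ 2 := orderOf_dvd_of_pow_eq_one h1
    have h7 : orderOf a ∣ Nat.card A := Subgroup.orderOf_dvd_natCard _ haA
    exact ha1 (orderOf_eq_one_iff.1 (Nat.eq_one_of_dvd_coprimes (Nat.coprime_two_left.2 (odd_of_mem hcard)) h6 h7))
  have hψz : ψ z = 1 := by
    rw [hψ, Pi.sub_apply, Pi.add_apply, hΨz, hχ, Pi.one_apply]
    simp only [hπz]
    norm_num
  have hψc : IsClassFunction (Cfsg.Sz F m) ψ := by
    obtain ⟨α, β, ha, hb, h⟩ := g1
    rw [h]
    intro g x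
    rw [Pi.sub_apply, Pi.sub_apply, isCharacter_isClassFunction ha g x, isCharacter_isClassFunction hb g x]
  classical
  let H : Subgroup (Cfsg.Sz F m) := Subgroup.zpowers z
  have hfH : Fintype H := Fintype.ofFinite H
  have hH2 : Nat.card H = 2 := by
    rw [Nat.card_zpowers]
    exact orderOf_eq_prime (by rw [pow_two, hz2]) hz1
  have hzH : z ∈ H := Subgroup.mem_zpowers z
  have hne1 : (1 : H) ≠ ⟨z, hzH⟩ := fun h => hz1 (congrArg Subtype.val h).symm
  have huniv : (Finset.univ : Finset H) = {1, ⟨z, hzH⟩} := by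
    symm
    rw [← Finset.card_eq_iff_eq_univ, ← Nat.card_eq_fintype_card, hH2]
    exact Finset.card_pair hne1
  have hinner : classInner (indFun H (1 : H → ℂ)) ψ = (((1 - (2 ^ (2 * m + 1)) ^ 2 : ℤ) : ℂ) + 1) / 2 := by
    rw [Brauer.classInner_indFun H hfH 1 ψ hψc]
    show (Nat.card H : ℂ)⁻¹ * ∑ h : H, (1 : H → ℂ) h * conj (ψ (h : Cfsg.Sz F m)) = _
    rw [hH2, huniv, Finset.sum_pair hne1]
    show ((2 : ℕ) : ℂ)⁻¹ * (1 * conj (ψ 1) + 1 * conj (ψ z)) = _
    rw [g5, hψz, map_intCast, map_one]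
    push_cast
    ring
  refine ratOdd_of_norm_three g1 g2 g3 ⟨_, ?_, g5⟩ g4 le_rfl (Θ := indFun H (1 : H → ℂ)) ?_ ?_ ?_
  · refine Odd.sub_even odd_one ?_
    rw [Int.even_pow]
    exact ⟨(Int.even_pow.2 ⟨even_two, by omega⟩), by norm_num⟩
  · exact Brauer.isGeneralizedCharacter_of_isCharacter
      (Brauer.isCharacter_indFun H (isIrr_isCharacter isIrr_one))
  · intro g
    rw [Brauer.indFun_apply]
    refine ⟨(Nat.card H : ℚ)⁻¹ * ∑ x : Cfsg.Sz F m, ((if x⁻¹ * g * x ∈ H then 1 else 0 : ℕ) : ℚ), ?_⟩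
    rw [Rat.cast_mul, Rat.cast_inv, Rat.cast_natCast, Rat.cast_sum]
    simp only [Rat.cast_natCast]
    congr 1
    refine Finset.sum_congr rfl fun x _ => ?_
    split_ifs with h
    · rw [ext_coe _ h, Nat.cast_one]; rfl
    · rw [ext_not _ h, Nat.cast_zero]
  · intro k hk
    rw [hinner] at hk
    have h1 : (1 - (2 ^ (2 * m + 1)) ^ 2 : ℤ) + 1 = 6 * k := by
      have : (((1 - (2 ^ (2 * m + 1)) ^ 2 : ℤ) : ℂ) + 1) = 6 * k := by linear_combination 2 * hk
      exact_mod_cast this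
    have h2 := three_mod m
    have h3 : ((2 : ℤ) ^ (2 * m + 1)) % 3 = 2 := by exact_mod_cast congrArg (Nat.cast (R := ℤ)) h2
    have h4 : (((2 : ℤ) ^ (2 * m + 1)) ^ 2) % 3 = 1 := by
      rw [pow_two, Int.mul_emod, h3]
      norm_num
    omega

/-- **The Suzuki groups** (task 928) -/
theorem sz {K : Type*} [Group K] [Finite K] (h : Lie.IsoSuzuki K) : RatOdd K := by
  obtain ⟨F, _, _, m, hm, hF, ⟨e⟩⟩ := h
  exact RatOdd.of_equiv (e.trans (iso hm hF).symm) (ratOdd_sz hm hF)

end Cfsg.Agent.H680.GowSz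
end
end
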